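import Cfsg.Agent.H932.DM.Tools
import Cfsg.Agent.H932.PS11.Lift
import Cfsg.Agent.H700.DM.Basic
import Cfsg.Agent.H887.DM.Low
import Cfsg.Agent.H456.DM.Solv
import Cfsg.Agent.H124.DM.Uniq
import Cfsg.Agent.H264.CoverOver
import Cfsg.Agent.OrdDiv.Main
import Cfsg.Agent.H495.Cod.Basic
import Cfsg.Agent.H464.PslDeg
import Cfsg.Agent.H621.SymDeg.Chars
import Cfsg.Agent.H655.PrimeNormal
import Cfsg.Agent.LieClassical.FieldTransfer
import Cfsg.Agent.S2093
import Cfsg.Agent.S2088
import Cfsg.Agent.S2116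
import Cfsg.Agent.S0892
import Cfsg.Agent.S0144
import Cfsg.Agent.S0252
import Cfsg.Agent.S0253
import Cfsg.Agent.S0254
import Cfsg.Agent.S0256

/-!
# S4907, exceptional row `2.Sp₆(2)` (helper733, DM22)

`row_sp6`: a group with the same character degrees as `2.Sp₆(2)` is isomorphic to `2.Sp₆(2)`.

`|H| = 2903040 = 2¹⁰ 3⁴ 5 7`. The number `5` is no degree of `H` (an odd degree belongs to `Sp₆(2)`, whose degrees are
`1` or at least `7`). So `A₅` and `A₆` are no quotients of `G`; then two nonabelian simple quotients are impossible by the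
order, `M` is solvable, `5, 7` do not divide `|M|`, and the covers of `A₇`, `L₃(4)`, `A₈`, `A₉` are excluded by their
multipliers.
-/

set_option autoImplicit false
set_option linter.unusedSectionVars false

namespace Cfsg.Agent.H733.DM.RowSp6

open Cfsg Subgroup
open scoped commutatorElement
open Cfsg.Agent.H700.DM
open Cfsg.Agent.OrdDiv (OrderTable cands ordN Real)

universe u v w

/-! ### general tools -/

theorem hasDeg_of_mem {K : Type*} [Group K] {n : ℕ} (h : n ∈ charDegrees K) : HasDeg n K := by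
  obtain ⟨χ, hχ⟩ := h
  exact ⟨χ, hχ⟩

theorem hasDeg_alt {n : ℕ} (hn : 5 ≤ n) {K : Type u} [Group K] (e : K ≃* ↥(alternatingGroup (Fin n))) :
    HasDeg (n - 1) K := by
  obtain ⟨ψ, hψ, h1⟩ := H621.SymDeg.alt_irr hn e
  exact ⟨⟨ψ, hψ⟩, Blocks.Basic.charDegree_of_eq h1⟩

/-- The factorisation of an irreducible character over a quotient. -/
theorem hasDeg_quotient {G : Type u} [Group G] [Finite G] (N : Subgroup G) [N.Normal] {χ : IrrCharacter G}
    (h : ∀ g ∈ N, (χ : G → ℂ) g = (χ : G → ℂ) 1) : HasDeg (charDegree (χ : G → ℂ)) (G ⧸ N) := by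
  obtain ⟨ψ, hψ⟩ := H686.CharKit.exists_infl N χ (fun g hg => h g hg)
  refine ⟨ψ, ?_⟩
  rw [← hψ]
  rfl

/-- The kernel of a central element: the value is `± χ(1)` at a central involution. -/
theorem central_sign {G : Type u} [Group G] [Finite G] {χ : G → ℂ} (hχ : IsIrrCharacter G χ) {z : G}
    (hz : z ∈ center G) (hzz : z * z = 1) : χ z = χ 1 ∨ χ z = - χ 1 := by
  obtain ⟨c, hc⟩ := H932.PS11.central_mul hχ hz
  have h1 : χ 1 ≠ 0 := Cfsg.Agent.Characters.Core.isIrr_apply_one_ne_zero hχ
  have h2 : χ z = c * χ 1 := by rw [← hc 1, mul_one]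
  have h3 : χ 1 = c * (c * χ 1) := by rw [← h2, ← hc, hzz]
  have h4 : c * c = 1 := mul_right_cancel₀ h1 (by rw [one_mul, mul_assoc]; exact h3.symm)
  rcases mul_self_eq_one_iff.1 h4 with h5 | h5
  · left; rw [h2, h5, one_mul]
  · right; rw [h2, h5, neg_one_mul]

/-- The centre of a quasisimple group divides the order of the multiplier. -/
theorem center_dvd {G : Type u} [Group G] {T : Type v} [Group T] (hG : IsQuasisimple G) {A : Type w} [CommGroup A]
    (hA : HasSchurMultiplier T A) (e : (G ⧸ center G) ≃* T) : Nat.card (center G) ∣ Nat.card A := by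
  have hker : (e.toMonoidHom.comp (QuotientGroup.mk' (center G))).ker = center G := by
    ext x
    rw [MonoidHom.mem_ker, MonoidHom.comp_apply]
    change e _ = 1 ↔ _
    rw [map_eq_one_iff _ e.injective, QuotientGroup.mk'_apply, QuotientGroup.eq_one_iff]
  have h := H264.CoverOver.card_ker_dvd hA hG.1.commutator_eq_top (e.toMonoidHom.comp (QuotientGroup.mk' (center G)))
    (e.surjective.comp (QuotientGroup.mk'_surjective _)) (by rw [hker])
  rwa [hker] at h

theorem center_dvd_cyclic {G : Type u} [Group G] {T : Type v} [Group T] (hG : IsQuasisimple G) {m : ℕ}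
    (hA : HasCyclicSchurMultiplier T m) (e : (G ⧸ center G) ≃* T) : Nat.card (center G) ∣ m := by
  have h := center_dvd hG hA e
  rwa [Nat.card_congr (Multiplicative.toAdd (α := ZMod m)), Nat.card_zmod] at h

theorem center_eq_bot {K : Type u} [Group K] [IsSimpleGroup K] (hna : ¬ ∀ a b : K, a * b = b * a) : center K = ⊥ := by
  rcases (inferInstance : (center K).Normal).eq_bot_or_eq_top with h | h
  · exact h
  · exfalso
    apply hna
    intro a b
    have : a ∈ center K := by rw [h]; trivial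
    exact (mem_center_iff.1 this b).symm

theorem isQuasisimple_of_simple {K : Type u} [Group K] [IsSimpleGroup K] (hna : ¬ ∀ a b : K, a * b = b * a) :
    IsQuasisimple K := by
  let ε : K ⧸ center K ≃* K := (QuotientGroup.quotientMulEquivOfEq (center_eq_bot hna)).trans QuotientGroup.quotientBot
  refine ⟨⟨?_⟩, ?_⟩
  · rcases (inferInstance : (commutator K).Normal).eq_bot_or_eq_top with h | h
    · exfalso
      apply hna
      intro a b
      have h1 : ⁅a, b⁆ ∈ commutator K := by
        rw [_root_.commutator_def]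
        exact Subgroup.commutator_mem_commutator trivial trivial
      rw [h, mem_bot] at h1
      exact commutatorElement_eq_one_iff_mul_comm.1 h1
    · exact h
  · have : Nontrivial (K ⧸ center K) := ε.toEquiv.nontrivial
    exact IsSimpleGroup.isSimpleGroup_of_surjective ε.symm.toMonoidHom ε.symm.surjective

theorem charP_two {F : Type} [Field F] [Fintype F] (hF : Fintype.card F = 2) : CharP F 2 := by
  obtain ⟨p, hp⟩ := CharP.exists F
  have : Fact p.Prime := ⟨CharP.char_is_prime F p⟩
  obtain ⟨n, hpp, hn⟩ := FiniteField.card F p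
  have h1 : p ∣ 2 := by rw [← hF, hn]; exact dvd_pow_self p n.ne_zero
  have h3 := (Nat.prime_dvd_prime_iff_eq hpp Nat.prime_two).1 h1
  subst h3
  exact hp

/-! ### the degree five -/

/-- `Sp₆(2)` has no irreducible degree `5`. -/
theorem not_hasDeg_sp {F : Type} [Field F] [Fintype F] (hF : Fintype.card F = 2) {K : Type u} [Group K] [Finite K]
    [IsSimpleGroup K] (hna : ¬ ∀ a b : K, a * b = b * a) (e : K ≃* PSp 3 F) : ¬ HasDeg 5 K := by
  have hp2 : Fact (Nat.Prime 2) := ⟨Nat.prime_two⟩
  have hF2 : CharP F 2 := charP_two hF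
  have hcen := center_eq_bot hna
  let ε : K ⧸ center K ≃* K := (QuotientGroup.quotientMulEquivOfEq hcen).trans QuotientGroup.quotientBot
  have h1 : LowDeg (2 ^ 3 - 1) K := H887.DM.lowDeg_of_bd (p := 2) Nat.prime_two (isQuasisimple_of_simple hna)
    (by rw [hcen, Subgroup.card_bot]; norm_num) (ε.trans e)
    (Cfsg.Agent.H175.BdSp.bd_psp_even hF (m := 3) (by norm_num) (by norm_num) (MulEquiv.refl _))
  rintro ⟨χ, hχ⟩
  rcases h1 χ with h | h <;> rw [hχ] at h <;> norm_num at h

/-- A double cover of `Sp₆(2)` has no irreducible degree `5`. -/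
theorem not_hasDeg {H : Type v} [Group H] [Finite H] (hq : IsQuasisimple H) {F : Type} [Field F] [Fintype F]
    (hF : Fintype.card F = 2) (e : H ⧸ center H ≃* PSp 3 F) (hc : Nat.card (center H) = 2) : ¬ HasDeg 5 H := by
  rintro ⟨χ, hχ⟩
  have hs : IsSimpleGroup (H ⧸ center H) := hq.2
  have hna : ¬ ∀ a b : H ⧸ center H, a * b = b * a := by
    intro hcomm
    have h1 : commutator H ≤ center H := by
      rw [_root_.commutator_def, Subgroup.commutator_le]
      intro a _ b _
      rw [← QuotientGroup.eq_one_iff]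
      have h3 : (QuotientGroup.mk ⁅a, b⁆ : H ⧸ center H) = ⁅(QuotientGroup.mk a : H ⧸ center H), QuotientGroup.mk b⁆ :=
        rfl
      rw [h3]
      exact commutatorElement_eq_one_iff_mul_comm.2 (hcomm _ _)
    rw [hq.1.commutator_eq_top, top_le_iff] at h1
    have h3 : Subsingleton (H ⧸ center H) := by
      rw [h1]
      exact QuotientGroup.subsingleton_quotient_top
    exact not_subsingleton (H ⧸ center H) h3
  obtain ⟨w, hw1, hw2⟩ := (Nat.card_eq_two_iff' (1 : center H)).1 hc
  have hww : (w : H) * w = 1 := by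
    have h1 : w ^ Nat.card (center H) = 1 := pow_card_eq_one'
    rw [hc, pow_two] at h1
    exact congrArg Subtype.val h1
  rcases central_sign χ.2 w.2 hww with h | h
  · refine not_hasDeg_sp hF hna e ?_
    rw [← hχ]
    refine hasDeg_quotient (center H) ?_
    intro g hg
    by_cases hg1 : (⟨g, hg⟩ : center H) = 1
    · rw [show g = 1 from congrArg Subtype.val hg1]
    · have h3 := hw2 ⟨g, hg⟩ hg1
      rw [show g = (w : H) from congrArg Subtype.val h3]
      exact h
  · have h3 := H932.PS11.dvd_degree (r := 2) hq.1.commutator_eq_top w.2 (ω := -1)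
      (IsPrimitiveRoot.neg_one 0 (by norm_num)) χ.2 (by rw [H932.PS11.Ov, h, neg_one_mul])
    rw [hχ] at h3
    omega

/-! ### the simple quotients -/

/-- the orders of the simple groups dividing `2903040` other than `60`, `360` -/
def ords : List ℕ := [168, 504, 6048, 25920, 2520, 20160, 181440, 1451520]

/-- The known simple groups of order dividing `2903040`. -/
theorem quot_cases (OT : OrderTable.{u}) {K : Type u} [Group K] [Finite K] (hK : IsKnownSimple' K)
    (hna : ¬ ∀ a b : K, a * b = b * a) (hd : Nat.card K ∣ 2903040) :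
    HasDeg 5 K ∨ (Nat.card K ∈ ords ∧ (Nat.card K ∈ [168, 504, 6048, 25920] ∨
      (Nat.card K = 2520 ∧ Nonempty (K ≃* ↥(alternatingGroup (Fin 7)))) ∨
      (Nat.card K = 20160 ∧ Nonempty (K ≃* ↥(alternatingGroup (Fin 8)))) ∨
      (Nat.card K = 20160 ∧ ∃ (F : Type) (_ : Field F) (_ : Fintype F), Fintype.card F = 4 ∧
        Nonempty (K ≃* Matrix.ProjectiveSpecialLinearGroup (Fin 3) F)) ∨
      (Nat.card K = 181440 ∧ Nonempty (K ≃* ↥(alternatingGroup (Fin 9)))) ∨
      (Nat.card K = 1451520 ∧ ∃ (F : Type) (_ : Field F) (_ : Fintype F), Fintype.card F = 2 ∧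
        Nonempty (K ≃* PSp 3 F)))) := by
  obtain ⟨g, hg, hr, ho⟩ := OrdDiv.exists_good OT hK hna (l := [(2, 10), (3, 4), (5, 1), (7, 1)]) (N := 2903040)
    (by decide +kernel) hd
  rw [show cands [(2, 10), (3, 4), (5, 1), (7, 1)] 2903040 = [.alt 5, .alt 6, .alt 7, .alt 8, .alt 9, .psl 3 2,
    .psl 4 2, .psl 2 4, .psl 3 4, .psl 2 8, .psl 2 9, .psl 2 5, .psl 2 7, .psp 3 2, .psp 2 3, .psu 4 2,
    .psu 3 3] by decide +kernel] at hg
  have h5 : ∀ {F : Type} [Field F] [Fintype F], Fintype.card F = 5 →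
      (K ≃* Matrix.ProjectiveSpecialLinearGroup (Fin 2) F) → HasDeg 5 K := fun hF e =>
    (hasDeg_of_mem (H464.PslDeg.psl_four_five hF).2).congr e
  have hp5 : Fact (Nat.Prime 5) := ⟨by norm_num⟩
  have hlist : ∀ {n : ℕ}, n = ordN g → n ∈ ords → n ∈ [168, 504, 6048, 25920] →
      Nat.card K ∈ ords ∧ Nat.card K ∈ [168, 504, 6048, 25920] := by
    intro n hn h1 h2
    rw [ho, ← hn]
    exact ⟨h1, h2⟩
  simp only [List.mem_cons, List.not_mem_nil, or_false] at hg
  rcases hg with rfl | rfl | rfl | rfl | rfl | rfl | rfl | rfl | rfl | rfl | rfl | rfl | rfl | rfl | rfl | rfl | rfl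
  · obtain ⟨e⟩ := hr
    obtain ⟨f⟩ := S0253.result (F := ZMod 5) (ZMod.card 5)
    exact Or.inl (h5 (ZMod.card 5) (e.trans f.symm))
  · obtain ⟨e⟩ := hr
    exact Or.inl (hasDeg_alt (by norm_num) e)
  · right
    have h : Nat.card K = 2520 := ho.trans (by decide +kernel)
    exact ⟨by rw [h]; decide, Or.inr (Or.inl ⟨h, hr⟩)⟩
  · right
    have h : Nat.card K = 20160 := ho.trans (by decide +kernel)
    exact ⟨by rw [h]; decide, Or.inr (Or.inr (Or.inl ⟨h, hr⟩))⟩
  · right
    have h : Nat.card K = 181440 := ho.trans (by decide +kernel)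
    exact ⟨by rw [h]; decide, Or.inr (Or.inr (Or.inr (Or.inr (Or.inl ⟨h, hr⟩))))⟩
  · have h : Nat.card K = 168 := ho.trans (by decide +kernel)
    exact Or.inr ⟨by rw [h]; decide, Or.inl (by rw [h]; decide)⟩
  · obtain ⟨F, _, _, hF, ⟨e⟩⟩ := hr
    obtain ⟨f⟩ := S0256.result (F := F) hF
    have h : Nat.card K = 20160 := ho.trans (by decide +kernel)
    exact Or.inr ⟨by rw [h]; decide, Or.inr (Or.inr (Or.inl ⟨h, ⟨e.trans f⟩⟩))⟩
  · obtain ⟨F, _, _, hF, ⟨e⟩⟩ := hr
    obtain ⟨f⟩ := S0252.result (F := F) hF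
    obtain ⟨f'⟩ := S0253.result (F := ZMod 5) (ZMod.card 5)
    exact Or.inl (h5 (ZMod.card 5) ((e.trans f).trans f'.symm))
  · have h : Nat.card K = 20160 := ho.trans (by decide +kernel)
    exact Or.inr ⟨by rw [h]; decide, Or.inr (Or.inr (Or.inr (Or.inl ⟨h, hr⟩)))⟩
  · have h : Nat.card K = 504 := ho.trans (by decide +kernel)
    exact Or.inr ⟨by rw [h]; decide, Or.inl (by rw [h]; decide)⟩
  · obtain ⟨F, _, _, hF, ⟨e⟩⟩ := hr
    obtain ⟨f⟩ := S0254.result (F := F) hF
    exact Or.inl (hasDeg_alt (by norm_num) (e.trans f))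
  · obtain ⟨F, _, _, hF, ⟨e⟩⟩ := hr
    exact Or.inl (h5 hF e)
  · have h : Nat.card K = 168 := ho.trans (by decide +kernel)
    exact Or.inr ⟨by rw [h]; decide, Or.inl (by rw [h]; decide)⟩
  · have h : Nat.card K = 1451520 := ho.trans (by decide +kernel)
    exact Or.inr ⟨by rw [h]; decide, Or.inr (Or.inr (Or.inr (Or.inr (Or.inr ⟨h, hr⟩))))⟩
  · have h : Nat.card K = 25920 := ho.trans (by decide +kernel)
    exact Or.inr ⟨by rw [h]; decide, Or.inl (by rw [h]; decide)⟩
  · have h : Nat.card K = 25920 := ho.trans (by decide +kernel)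
    exact Or.inr ⟨by rw [h]; decide, Or.inl (by rw [h]; decide)⟩
  · have h : Nat.card K = 6048 := ho.trans (by decide +kernel)
    exact Or.inr ⟨by rw [h]; decide, Or.inl (by rw [h]; decide)⟩

theorem ords_mul : ∀ a ∈ ords, ∀ b ∈ ords, ¬ a * b ∣ 2903040 := by decide

theorem ords_ge : ∀ a ∈ ords, 168 ≤ a := by decide

/-- `|Sp₆(2)| = 1451520` -/
theorem card_sp {F : Type} [Field F] [Fintype F] (hF : Fintype.card F = 2) : Nat.card (PSp 3 F) = 1451520 := by
  have h1 := S0245.result hF 3
  have h2 := S0246.result hF 3 (by norm_num)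
  have h3 := Subgroup.card_eq_card_quotient_mul_card_subgroup (center (Matrix.symplecticGroup (Fin 3) F))
  rw [h1, h2] at h3
  norm_num [Finset.prod_range_succ] at h3
  exact h3.symm

/-- a nonabelian simple quotient of a perfect group -/
theorem not_comm {G : Type u} [Group G] (hperf : commutator G = ⊤) (N : Subgroup G) [N.Normal] [Nontrivial (G ⧸ N)] :
    ¬ ∀ a b : G ⧸ N, a * b = b * a := by
  intro hcomm
  have h1 : commutator G ≤ N := by
    rw [_root_.commutator_def, Subgroup.commutator_le]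
    intro a _ b _
    rw [← QuotientGroup.eq_one_iff]
    have h3 : (QuotientGroup.mk ⁅a, b⁆ : G ⧸ N) = ⁅(QuotientGroup.mk a : G ⧸ N), QuotientGroup.mk b⁆ := rfl
    rw [h3]
    exact commutatorElement_eq_one_iff_mul_comm.2 (hcomm _ _)
  rw [hperf, top_le_iff] at h1
  have h3 : Subsingleton (G ⧸ N) := by
    rw [h1]
    exact QuotientGroup.subsingleton_quotient_top
  exact not_subsingleton (G ⧸ N) h3

/-- a normal subgroup of order two of a perfect group with nonabelian simple quotient is the centre -/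
theorem center_eq {G : Type u} [Group G] [Finite G] (hperf : commutator G = ⊤) (N : Subgroup G) [N.Normal]
    [IsSimpleGroup (G ⧸ N)] (hna : ¬ ∀ a b : G ⧸ N, a * b = b * a) (h2 : Nat.card N = 2) : center G = N := by
  have hcyc : IsCyclic N := isCyclic_of_prime_card (hp := ⟨Nat.prime_two⟩) h2
  have hNc := H655.PrimeNormal.le_center_of_isCyclic hperf N inferInstance hcyc
  refine le_antisymm ?_ hNc
  intro x hx
  rw [← QuotientGroup.eq_one_iff]
  have h1 : (x : G ⧸ N) ∈ center (G ⧸ N) := by
    rw [mem_center_iff]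
    intro y
    obtain ⟨y, rfl⟩ := QuotientGroup.mk_surjective y
    rw [← QuotientGroup.mk_mul, ← QuotientGroup.mk_mul, mem_center_iff.1 hx y]
  rw [center_eq_bot hna, mem_bot] at h1
  exact h1

/-! ### the row -/

theorem gl_two_three : Nat.card (GL (Fin 2) (ZMod 3)) = 48 := by
  have hp3 : Fact (Nat.Prime 3) := ⟨Nat.prime_three⟩
  rw [Matrix.card_GL_field]
  simp [Fin.prod_univ_two]

theorem gl_one (p : ℕ) [Fact p.Prime] : Nat.card (GL (Fin 1) (ZMod p)) = p - 1 := by
  rw [Matrix.card_GL_field]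
  simp

/-- **DM22**: the exceptional row `2.Sp₆(2)`, with the classification and the Schreier property as hypotheses. -/
theorem row_sp6_of {G : Type u} {H : Type v} [Group G] [Finite G] [Group H] [Finite H] (OT : OrderTable.{u})
    (hS : ∀ (X : Type u) [Group X] [Finite X] [IsSimpleGroup X], IsKnownSimple' X)
    (hSch : ∀ (K : Type u) [Group K] [Finite K], IsSimpleGroup K → (¬ ∀ a b : K, a * b = b * a) → Schreier.Basic.Sch K)
    (hH : IsQuasisimple H) {F : Type} [Field F] [Fintype F] (hF : Fintype.card F = 2)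
    (e : H ⧸ center H ≃* PSp 3 F) (h2 : 2 ∣ Nat.card (center H)) (hd : SameDeg G H) : Nonempty (G ≃* H) := by
  have hperfH : commutator H = ⊤ := hH.1.commutator_eq_top
  have hc : Nat.card (center H) = 2 := by
    have h1 := center_dvd_cyclic hH (S2093.result hF) e
    exact Nat.dvd_antisymm h1 h2
  have hcH : Nat.card H = 2903040 := by
    rw [Subgroup.card_eq_card_quotient_mul_card_subgroup (center H), hc, Nat.card_congr e.toEquiv, card_sp hF]
  have hcG : Nat.card G = 2903040 := hd.card_eq.trans hcH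
  have hP : Group.IsPerfect G := hd.perfect hH.1
  have hperf : commutator G = ⊤ := hP.commutator_eq_top
  have hno5 : ¬ HasDeg 5 G := fun h => not_hasDeg hH hF e hc (hd.hasDeg.1 h)
  have hnt : Nontrivial G := by
    rw [← Finite.one_lt_card_iff_nontrivial, hcG]
    norm_num
  obtain ⟨N, hN, hsimple⟩ := H655.PrimeNormal.exists_simple_quotient G
  have hna : ¬ ∀ a b : G ⧸ N, a * b = b * a := not_comm hperf N
  have hcN := Subgroup.card_eq_card_quotient_mul_card_subgroup N
  rw [hcG] at hcN
  have hinf : ¬ HasDeg 5 (G ⧸ N) := fun h =>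
    hno5 (h.inflate (f := QuotientGroup.mk' N) (QuotientGroup.mk'_surjective N))
  obtain ⟨hord, hcases⟩ := (quot_cases OT (hS (G ⧸ N)) hna ⟨_, hcN⟩).resolve_left hinf
  -- `N` is solvable
  have hsolv : Group.IsSolvable N := by
    refine H456.DM.Solv.solvable_of_sch hSch hP N ?_ ?_
    · intro T _ _ _ f hf hnaT hdvd
      rw [hcG] at hdvd
      have h5 : ¬ HasDeg 5 T := fun h => hno5 (h.inflate hf)
      obtain ⟨hT, -⟩ := (quot_cases OT (hS T) hnaT ((Dvd.intro _ rfl).trans hdvd)).resolve_left h5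
      exact ords_mul _ hT _ hord hdvd
    · have := ords_ge _ hord
      rw [hcG]
      omega
  -- `5` and `7` do not divide `|N|`
  have hp5 : Fact (Nat.Prime 5) := ⟨by norm_num⟩
  have hp7 : Fact (Nat.Prime 7) := ⟨by norm_num⟩
  have h5 : ¬ 5 ∣ Nat.card N :=
    H932.DM.not_dvd_of_solvable (p := 5) (Nat.card G) G le_rfl hperf (by rw [hcG]; norm_num) N hsolv
  have h7 : ¬ 7 ∣ Nat.card N :=
    H932.DM.not_dvd_of_solvable (p := 7) (Nat.card G) G le_rfl hperf (by rw [hcG]; norm_num) N hsolv
  have hp3 : Fact (Nat.Prime 3) := ⟨Nat.prime_three⟩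
  -- the prime `3`
  have key3 : Nat.card N = 1152 ∨ Nat.card N = 144 → 48 < Nat.card (G ⧸ N) →
      ∃ (E : Type u) (_ : Group E) (_ : Finite E), Cfsg.IsQuasisimple E ∧ Nonempty (E ⧸ center E ≃* G ⧸ N) ∧
      Nat.card (center E) = 9 := by
    intro hN9 hbig
    obtain ⟨E, _, _, h1, h3, h4⟩ := H456.DM.Cover.cover_of' hP N hsimple hna hsolv Nat.prime_three (by
      intro j hj hdj hdvd
      have hj2 : j ≤ 2 := by
        by_contra hlt
        push Not at hlt
        have h6 : 3 ^ 3 ∣ Nat.card N := (pow_dvd_pow 3 hlt).trans hdj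
        rcases hN9 with h | h <;> rw [h] at h6 <;> norm_num at h6
      have hle := Nat.le_of_dvd Nat.card_pos hdvd
      interval_cases j
      · rw [gl_one] at hle
        omega
      · rw [gl_two_three] at hle
        omega)
    refine ⟨E, inferInstance, inferInstance, h1, h3, ?_⟩
    rw [h4]
    have h6 : (Nat.card N).factorization 3 = 2 := by
      rcases hN9 with h | h
      · rw [h, show 1152 = 3 ^ 2 * 128 by norm_num, Nat.factorization_mul (by norm_num) (by norm_num),
          Finsupp.add_apply, Nat.Prime.factorization_pow Nat.prime_three, Finsupp.single_eq_same,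
          Nat.factorization_eq_zero_of_not_dvd (by norm_num)]
      · rw [h, show 144 = 3 ^ 2 * 16 by norm_num, Nat.factorization_mul (by norm_num) (by norm_num),
          Finsupp.add_apply, Nat.Prime.factorization_pow Nat.prime_three, Finsupp.single_eq_same,
          Nat.factorization_eq_zero_of_not_dvd (by norm_num)]
    rw [h6]
    norm_num
  rcases hcases with h | ⟨h, ⟨f⟩⟩ | ⟨h, ⟨f⟩⟩ | ⟨h, F', _, _, hF', ⟨f⟩⟩ | ⟨h, ⟨f⟩⟩ | ⟨h, F', _, _, hF', ⟨f⟩⟩
  · exfalso
    simp only [List.mem_cons, List.not_mem_nil, or_false] at h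
    rcases h with h | h | h | h <;> rw [h] at hcN
    · exact h5 ⟨3456, by omega⟩
    · exact h5 ⟨1152, by omega⟩
    · exact h5 ⟨96, by omega⟩
    · exact h7 ⟨16, by omega⟩
  · exfalso
    rw [h] at hcN
    obtain ⟨E, _, _, h1, ⟨h3⟩, h4⟩ := key3 (Or.inl (by omega)) (by rw [h]; norm_num)
    have h6 := center_dvd_cyclic h1 (S2116.result 7 (Or.inr rfl)) (h3.trans f)
    rw [h4] at h6
    norm_num at h6
  · exfalso
    rw [h] at hcN
    obtain ⟨E, _, _, h1, ⟨h3⟩, h4⟩ := key3 (Or.inr (by omega)) (by rw [h]; norm_num)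
    have h6 := S0892.result 8 (by norm_num) (by norm_num) (by norm_num) (center E) le_rfl
      (by rw [h1.1.commutator_eq_top]; exact le_top) (h3.trans f)
    rw [h4] at h6
    norm_num at h6
  · exfalso
    rw [h] at hcN
    obtain ⟨E, _, _, h1, ⟨h3⟩, h4⟩ := key3 (Or.inr (by omega)) (by rw [h]; norm_num)
    have h6 := center_dvd h1 (S2088.result hF') (h3.trans f)
    rw [h4, Nat.card_congr (Multiplicative.toAdd (α := ZMod 3 × ZMod 4 × ZMod 4)), Nat.card_prod, Nat.card_prod,
      Nat.card_zmod, Nat.card_zmod] at h6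
    norm_num at h6
  · exfalso
    rw [h] at hcN
    have hN16 : Nat.card N = 16 := by omega
    obtain ⟨E, _, _, h1, ⟨h3⟩, h4⟩ := H456.DM.Cover.cover_of' hP N hsimple hna hsolv Nat.prime_two (by
      intro j hj hdj hdvd
      rw [hN16] at hdj
      have hj4 : j ≤ 4 := by
        by_contra hlt
        push Not at hlt
        have h6 : 2 ^ 5 ∣ 16 := (pow_dvd_pow 2 hlt).trans hdj
        norm_num at h6
      rw [h] at hdvd
      have hp2 : Fact (Nat.Prime 2) := ⟨Nat.prime_two⟩
      have hle := Nat.le_of_dvd Nat.card_pos hdvd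
      rw [Matrix.card_GL_field] at hle
      interval_cases j
      · simp at hle
      · simp [Fin.prod_univ_two] at hle
      · simp [Fin.prod_univ_three] at hle
      · simp [Fin.prod_univ_four] at hle)
    have h6 := S0892.result 9 (by norm_num) (by norm_num) (by norm_num) (center E) le_rfl
      (by rw [h1.1.commutator_eq_top]; exact le_top) (h3.trans f)
    rw [h4, hN16, show (16 : ℕ) = 2 ^ 4 by norm_num, Nat.Prime.factorization_pow Nat.prime_two,
      Finsupp.single_eq_same] at h6
    norm_num at h6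
  · rw [h] at hcN
    have hN2 : Nat.card N = 2 := by omega
    have hcen := center_eq hperf N hna hN2
    subst hcen
    have hq : IsQuasisimple G := ⟨hP, hsimple⟩
    let g : PSp 3 F' ≃* PSp 3 F := LieClassical.FieldTransfer.pspCongr 3 (FiniteField.ringEquivOfCardEq (hF'.trans hF.symm))
    exact H124.DM.iso_of_cyc (S2093.result hF) hq hH (f.trans g) ((f.trans g).trans e.symm) (hN2.trans hc.symm)

end Cfsg.Agent.H733.DM.RowSp6
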